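import Groth.Agent.Lib.UoDesc5.Descent
import Groth.Agent.Lib.CmpBig24.FppfEt

/-! Comparison of the étale topology with the topology of étale coverings and finite surjections. -/

universe u

open CategoryTheory CategoryTheory.Limits AlgebraicGeometry Opposite

set_option linter.style.haveILetI false
set_option linter.unusedSectionVars false
set_option backward.isDefEq.respectTransparency false
set_option backward.isDefEq.respectTransparency.types false

namespace Groth.Agent.UoDesc5

open Groth.Agent.CmpBig24 (Sit εX rightDerived_iso_of_natIso fToIso)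
open Groth.Agent.CmpBig24.FppfEt (fromEt fromEt_pullBig)

/-- Abelian sheaves for the topology. -/
abbrev AbK (X : Scheme.{u}) := BigSite.Ab K X

theorem isSheaf_of_fromEt {X : Scheme.{u}} (G : BigSite.Ab Scheme.etalePrecoverage X) (hG : fromEt X G) :
    Presheaf.IsSheaf (QuotSh.J K X) G.obj := by
  obtain ⟨F, ⟨e⟩⟩ := hG
  exact (Presheaf.isSheaf_of_iso_iff ((sheafToPresheaf _ _).mapIso e)).1 (isSheaf_K (EtFpqc16.isLocal_pi F))

theorem sit : Sit (C := Scheme.{u}) (J := K.toGrothendieck)
    (J' := Scheme.etalePrecoverage.toGrothendieck) (fun _ _ f => IsFinite f) fromEt where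
  h1 X Y f hf Y' g := by
    refine ⟨pullback g f, pullback.fst g f, pullback.snd g f, IsPullback.of_hasPullback g f, ?_⟩
    have : IsFinite f := hf
    exact MorphismProperty.pullback_fst (P := @IsFinite) g f this
  h2 X Y f F' hF' := fromEt_pullBig f F' hF'
  h3 X F' hF' := isSheaf_of_fromEt F' hF'
  h4 X Y f _ hf F' hF' i := CmpBig24.FppfEt.sit.h4 f hf F' hF' i

/-- The pullback to the big site, seen as a sheaf for the topology. -/
noncomputable def piK {X : Scheme.{u}} (F : EtCoh.Ab X) : AbK X :=
  ⟨((BigSite.piEtPull Scheme.etalePrecoverage X).obj F).obj, isSheaf_K (EtFpqc16.isLocal_pi F)⟩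

/-- It restricts to the pullback to the big étale site. -/
noncomputable def epsPiIso {X : Scheme.{u}} (F : EtCoh.Ab X) :
    (εX etale_le X).obj (piK F) ≅ (BigSite.piEtPull Scheme.etalePrecoverage X).obj F :=
  (fullyFaithfulSheafToPresheaf _ _).preimageIso (Iso.refl _)

end Groth.Agent.UoDesc5
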