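import Groth.Agent.Lib.UoDesc5.Top
import Groth.Agent.Lib.EtFpqc16.Descent
import Mathlib.CategoryTheory.Sites.Canonical

/-! Sheaves coming from small étale sites descend along finite surjective morphisms. -/

set_option autoImplicit false
set_option linter.style.haveILetI false
set_option linter.unusedSectionVars false
set_option backward.isDefEq.respectTransparency false
set_option backward.isDefEq.respectTransparency.types false

universe u

open CategoryTheory CategoryTheory.Limits AlgebraicGeometry Opposite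

namespace Groth.Agent.UoDesc5

open Groth.Agent.EtStalk
open Groth.Agent.EtFpqc16 (IsLocal AgreeAt isOpen_agreeAt mem_J_of_forall eq_of_agreeAt agreeAt_map agreeAt_of_map stalkRes stalkRes_bijective stalkRes_germ)

variable {S : Scheme.{u}} {G : BigSite.Ab Scheme.etalePrecoverage S} (hG : IsLocal G)

variable {U W : Over S} (k : W ⟶ U) [IsFinite k.left] [Surjective k.left]

/-- the fibre product with `W` -/
noncomputable def fib' (Z : Over S) (m : Z ⟶ U) : Over S := Over.mk (pullback.fst m.left k.left ≫ Z.hom)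

noncomputable def fibFst (Z : Over S) (m : Z ⟶ U) : fib' k Z m ⟶ Z := Over.homMk (pullback.fst m.left k.left) rfl

noncomputable def fibSnd (Z : Over S) (m : Z ⟶ U) : fib' k Z m ⟶ W := Over.homMk (pullback.snd m.left k.left) (by
  show pullback.snd _ _ ≫ W.hom = pullback.fst _ _ ≫ Z.hom
  rw [← Over.w k, ← Over.w m, pullback.condition_assoc])

theorem fib_w (Z : Over S) (m : Z ⟶ U) : fibFst k Z m ≫ m = fibSnd k Z m ≫ k :=
  Over.OverMorphism.ext pullback.condition

include hG in
theorem eq_of_fib {Z : Over S} (m : Z ⟶ U) (a b : G.obj.obj (op Z))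
    (h : G.obj.map (fibFst k Z m).op a = G.obj.map (fibFst k Z m).op b) : a = b := by
  refine eq_of_agreeAt a b fun x => ?_
  haveI : Surjective (fibFst k Z m).left := inferInstanceAs (Surjective (pullback.fst m.left k.left))
  obtain ⟨z, rfl⟩ := (fibFst k Z m).left.surjective x
  refine agreeAt_of_map hG _ a b z ?_
  rw [h]
  exact ⟨_, 𝟙 _, inferInstanceAs (Etale (𝟙 _)), ⟨z, rfl⟩, rfl⟩

include hG in
theorem exists_local (t : G.obj.obj (op W))
    (ht : ∀ ⦃Z : Over S⦄ (a b : Z ⟶ W), a ≫ k = b ≫ k → G.obj.map a.op t = G.obj.map b.op t) (u : U.left) :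
    ∃ (M : Over S) (m : M ⟶ U) (p : M.left) (s : G.obj.obj (op M)), Etale m.left ∧ m.left p = u ∧
      ∀ ⦃Z : Over S⦄ (a : Z ⟶ M) (b : Z ⟶ W), a ≫ m = b ≫ k → G.obj.map a.op s = G.obj.map b.op t := by
  obtain ⟨w, rfl⟩ := k.left.surjective u
  let ξ := geomPt W.left w
  let T : W.left.Etale := EtCoh.top W.left
  let τ : (Over.map U.hom).obj ((Over.map k.left).obj ((EtFppf.a W.left).obj T)) ⟶ W := Over.homMk (𝟙 _) (by
    show 𝟙 _ ≫ W.hom = (𝟙 _ ≫ k.left) ≫ U.hom
    rw [Category.id_comp, Category.id_comp, Over.w k])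
  let xT : fib ξ T := Over.homMk ξ (Category.comp_id _)
  obtain ⟨p₀, hp₀⟩ := (stalkRes_bijective hG U.hom k.left ξ).2 (germ ξ _ xT (G.obj.map τ.op t))
  obtain ⟨E, y, s, rfl⟩ := germ_surjective _ _ p₀
  rw [stalkRes_germ] at hp₀
  let E₀ : Over S := (Over.map U.hom).obj ((EtFppf.a U.left).obj E)
  let m : E₀ ⟶ U := Over.homMk E.hom rfl
  let s₀ : G.obj.obj (op E₀) := s
  haveI : Etale m.left := E.prop
  let A : Set (fib' k E₀ m).left :=
    {z | AgreeAt (G.obj.map (fibFst k E₀ m).op s₀) (G.obj.map (fibSnd k E₀ m).op t) z}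
  -- the point above the geometric point is in the agreement locus
  let gT : (EtCoh.bc k.left).obj E ⟶ T := MorphismProperty.Over.homMk (pullback.snd E.hom k.left) (Category.comp_id _)
  have hxT : (Scheme.pointSmallEtale ξ).fiber.map gT (liftFib k.left ξ y) = xT :=
    Over.OverMorphism.ext (pullback.lift_snd _ _ _)
  rw [← hxT, ← germ_map, germ_eq_iff] at hp₀
  obtain ⟨V, g, yV, hyV, hV⟩ := hp₀
  have hz₀ : fibPt (liftFib k.left ξ y) ∈ A := by
    let e : (Over.map U.hom).obj ((Over.map k.left).obj ((EtFppf.a W.left).obj V)) ⟶ fib' k E₀ m :=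
      Over.homMk g.left (by
        show g.left ≫ pullback.fst E.hom k.left ≫ E.hom ≫ U.hom = (V.hom ≫ k.left) ≫ U.hom
        rw [← MorphismProperty.Over.w g]
        show g.left ≫ pullback.fst E.hom k.left ≫ E.hom ≫ U.hom = ((g.left ≫ pullback.snd E.hom k.left) ≫ k.left) ≫ U.hom
        rw [pullback.condition_assoc, Category.assoc, Category.assoc])
    have hget : Etale g.left := by
      haveI : Etale V.hom := V.prop
      haveI : Etale ((EtCoh.bc k.left).obj E).hom := ((EtCoh.bc k.left).obj E).prop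
      haveI : Etale (g.left ≫ ((EtCoh.bc k.left).obj E).hom) := by rw [MorphismProperty.Over.w g]; infer_instance
      exact Etale.of_comp g.left ((EtCoh.bc k.left).obj E).hom
    refine ⟨_, e, hget, ⟨fibPt yV, ?_⟩, ?_⟩
    · exact (Scheme.Hom.comp_apply _ _ _).symm.trans (congrArg fibPt hyV)
    · have h1 : (Over.map U.hom).map ((Over.map k.left).map ((EtFppf.a W.left).map g)) ≫
          (Over.map U.hom).map (SmallBigBC16.proj k.left E) = e ≫ fibFst k E₀ m := by ext : 1; rfl
      have h2 : (Over.map U.hom).map ((Over.map k.left).map ((EtFppf.a W.left).map g)) ≫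
          (Over.map U.hom).map ((Over.map k.left).map ((EtFppf.a W.left).map gT)) ≫ τ = e ≫ fibSnd k E₀ m := by
        ext : 1
        show g.left ≫ pullback.snd _ _ ≫ 𝟙 _ = g.left ≫ pullback.snd _ _
        simp
      rw [← Functor.map_comp_apply, ← Functor.map_comp_apply, ← op_comp, ← op_comp, ← h1, ← h2, op_comp, op_comp,
        op_comp, Functor.map_comp_apply, Functor.map_comp_apply, Functor.map_comp_apply]
      exact hV
  -- the agreement locus is saturated
  have hsat : ∀ z₁ z₂, (fibFst k E₀ m).left z₁ = (fibFst k E₀ m).left z₂ → z₁ ∈ A → z₂ ∈ A := by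
    intro z₁ z₂ hz h₁
    obtain ⟨q, hq₁, hq₂⟩ := Scheme.Pullback.exists_preimage_pullback
      (f := (fibFst k E₀ m).left) (g := (fibFst k E₀ m).left) z₁ z₂ hz
    let Q : Over S := Over.mk (pullback.fst (fibFst k E₀ m).left (fibFst k E₀ m).left ≫ (fib' k E₀ m).hom)
    let q₁ : Q ⟶ fib' k E₀ m := Over.homMk (pullback.fst _ _) rfl
    let q₂ : Q ⟶ fib' k E₀ m := Over.homMk (pullback.snd _ _) (by
      show pullback.snd _ _ ≫ (fib' k E₀ m).hom = pullback.fst _ _ ≫ (fib' k E₀ m).hom
      rw [← Over.w (fibFst k E₀ m), pullback.condition_assoc])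
    have hw : q₁ ≫ fibFst k E₀ m = q₂ ≫ fibFst k E₀ m := Over.OverMorphism.ext pullback.condition
    have hk : (q₁ ≫ fibSnd k E₀ m) ≫ k = (q₂ ≫ fibSnd k E₀ m) ≫ k := by
      rw [Category.assoc, Category.assoc, ← fib_w, reassoc_of% hw]
    have h := agreeAt_map q₁ _ _ q ((congrArg (fun z => z ∈ A) hq₁).mpr h₁)
    rw [← Functor.map_comp_apply, ← Functor.map_comp_apply, ← op_comp, ← op_comp, hw, ht _ _ hk, op_comp, op_comp,
      Functor.map_comp_apply, Functor.map_comp_apply] at h
    exact (congrArg (fun z => z ∈ A) hq₂).mp (agreeAt_of_map hG q₂ _ _ q h)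
  haveI : IsFinite (fibFst k E₀ m).left := inferInstanceAs (IsFinite (pullback.fst m.left k.left))
  haveI : Surjective (fibFst k E₀ m).left := inferInstanceAs (Surjective (pullback.fst m.left k.left))
  let O : E₀.left.Opens := ⟨(fibFst k E₀ m).left '' A, by
    rw [← ((fibFst k E₀ m).left.isClosedMap.isQuotientMap (fibFst k E₀ m).left.continuous (fibFst k E₀ m).left.surjective).isOpen_preimage]
    convert isOpen_agreeAt (G.obj.map (fibFst k E₀ m).op s₀) (G.obj.map (fibSnd k E₀ m).op t) using 1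
    ext z
    exact ⟨fun ⟨z', h', e⟩ => hsat z' z e h', fun h' => ⟨z, h', rfl⟩⟩⟩
  let M : Over S := Over.mk (O.ι ≫ E₀.hom)
  let ι₀ : M ⟶ E₀ := Over.homMk O.ι rfl
  refine ⟨M, ι₀ ≫ m, ⟨(fibFst k E₀ m).left (fibPt (liftFib k.left ξ y)), _, hz₀, rfl⟩, G.obj.map ι₀.op s₀,
    inferInstanceAs (Etale (O.ι ≫ m.left)), ?_, fun Z a b hab => ?_⟩
  · show (O.ι ≫ E.hom) _ = _
    rw [Scheme.Hom.comp_apply]
    show E.hom ((pullback.fst E.hom k.left) ((liftFib k.left ξ y).left (default : Spec (CommRingCat.of (SeparableClosure (W.left.residueField w)))))) = _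
    refine (Scheme.Hom.comp_apply _ _ _).symm.trans ?_
    refine (Scheme.Hom.comp_apply _ _ _).symm.trans ?_
    have e : (liftFib k.left ξ y).left ≫ pullback.fst E.hom k.left ≫ E.hom = ξ ≫ k.left := by
      show pullback.lift _ ξ _ ≫ pullback.fst _ _ ≫ E.hom = _
      rw [pullback.condition, pullback.lift_snd_assoc]
    refine (congrArg (fun q : Spec (CommRingCat.of (SeparableClosure (W.left.residueField w))) ⟶ U.left => q default) e).trans ?_
    rw [Scheme.Hom.comp_apply, geomPt_default]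
  · have hl : (a ≫ ι₀).left ≫ m.left = b.left ≫ k.left := by
      rw [← Over.comp_left, ← Over.comp_left, Category.assoc, hab]
    let l : Z ⟶ fib' k E₀ m := Over.homMk (pullback.lift (a ≫ ι₀).left b.left hl) (by
      show pullback.lift _ _ _ ≫ pullback.fst _ _ ≫ E₀.hom = Z.hom
      rw [pullback.lift_fst_assoc, Over.w])
    have hl₁ : l ≫ fibFst k E₀ m = a ≫ ι₀ := Over.OverMorphism.ext (pullback.lift_fst _ _ _)
    have hl₂ : l ≫ fibSnd k E₀ m = b := Over.OverMorphism.ext (pullback.lift_snd _ _ _)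
    rw [← Functor.map_comp_apply, ← op_comp, ← hl₁, ← hl₂, op_comp, op_comp, Functor.map_comp_apply,
      Functor.map_comp_apply]
    refine eq_of_agreeAt _ _ fun z => agreeAt_map l _ _ z ?_
    have hO : (fibFst k E₀ m).left (l.left z) ∈ O := by
      rw [← Scheme.Hom.comp_apply, ← Over.comp_left, hl₁, Over.comp_left, Scheme.Hom.comp_apply]
      exact (a.left z).2
    obtain ⟨z', hz', he⟩ := hO
    exact hsat z' _ he hz'

include hG in
theorem descends_step : Function.Injective (G.obj.map k.op) ∧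
    ∀ t : G.obj.obj (op W), (∀ ⦃Z : Over S⦄ (a b : Z ⟶ W), a ≫ k = b ≫ k → G.obj.map a.op t = G.obj.map b.op t) →
      ∃ s, G.obj.map k.op s = t := by
  refine ⟨fun a b h => ?_, fun t ht => ?_⟩
  · refine eq_of_fib hG k (𝟙 U) a b ?_
    have e : fibFst k U (𝟙 U) = fibSnd k U (𝟙 U) ≫ k := (Category.comp_id _).symm.trans (fib_w k U (𝟙 U))
    rw [e, op_comp, Functor.map_comp_apply, Functor.map_comp_apply, h]
  choose M m p s hm hp hs using fun u => exists_local hG k t ht u
  have hsh : Presieve.IsSheaf (QuotSh.J Scheme.etalePrecoverage S) (G.obj ⋙ forget AddCommGrpCat.{u + 1}) :=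
    (isSheaf_iff_isSheaf_of_type _ _).1 ((Presheaf.isSheaf_iff_isSheaf_forget _ _ _).1 G.property)
  have hR : Sieve.ofArrows M m ∈ QuotSh.J Scheme.etalePrecoverage S U :=
    mem_J_of_forall _ fun u => ⟨M u, m u, p u, hm u, hp u, Sieve.le_generate _ _ _ ⟨u⟩⟩
  obtain ⟨s₁, hs₁, -⟩ := (Presieve.isSheafFor_arrows_iff _ _).1 ((Presieve.isSheafFor_iff_generate _).2 (hsh _ hR))
    s fun u v Z gu gv e => eq_of_fib hG k (gu ≫ m u) _ _ (by
      show G.obj.map _ (G.obj.map gu.op (s u)) = G.obj.map _ (G.obj.map gv.op (s v))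
      rw [← Functor.map_comp_apply, ← Functor.map_comp_apply, ← op_comp, ← op_comp,
        hs u _ (fibSnd k Z (gu ≫ m u)) (by rw [Category.assoc, fib_w]),
        hs v _ (fibSnd k Z (gu ≫ m u)) (by rw [Category.assoc, ← e, fib_w])])
  refine ⟨s₁, (hsh.isSeparated _ ((QuotSh.J Scheme.etalePrecoverage S).pullback_stable k hR)).ext fun Z h hh => ?_⟩
  obtain ⟨_, v, _, ⟨u⟩, hv⟩ := hh
  show G.obj.map h.op (G.obj.map k.op s₁) = G.obj.map h.op t
  rw [← Functor.map_comp_apply, ← op_comp, ← hv, op_comp, Functor.map_comp_apply]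
  exact (congrArg (G.obj.map v.op) (hs₁ u)).trans (hs u v h hv)


end Groth.Agent.UoDesc5

namespace Groth.Agent.UoDesc5

open Groth.Agent.EtFpqc16 (IsLocal)

variable {S : Scheme.{u}}

/-- Sieves of schemes whose base changes are sheafy for `P`. -/
def goodTop (P : (Over S)ᵒᵖ ⥤ Type (u + 1)) : GrothendieckTopology Scheme.{u} where
  sieves X := Set.ofPred fun R : Sieve X => ∀ (M : Over S) (φ : M.left ⟶ X),
    (Sieve.overEquiv M).symm (R.pullback φ) ∈ Sheaf.finestTopologySingle P M
  top_mem' X M φ := by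
    rw [Sieve.pullback_top, map_top]
    exact GrothendieckTopology.top_mem _ M
  pullback_stable' X Y R g hR M φ := by
    rw [← Sieve.pullback_comp]
    exact hR M (φ ≫ g)
  transitive' X R hR R' hR' M φ := by
    refine GrothendieckTopology.transitive _ (hR M φ) _ fun N f hf => ?_
    rw [← Sieve.overEquiv_symm_pullback]
    simpa only [← Sieve.pullback_comp, Category.id_comp] using hR' ((Sieve.overEquiv_symm_iff _ _).1 hf) N (𝟙 _)

theorem isSheafFor_singleton {G : BigSite.Ab Scheme.etalePrecoverage S} (hG : IsLocal G) {N W : Over S} (k : W ⟶ N)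
    [IsFinite k.left] [Surjective k.left] :
    Presieve.IsSheafFor (G.obj ⋙ forget AddCommGrpCat.{u + 1})
      (Presieve.ofArrows (fun _ : PUnit.{1} => W) (fun _ => k)) := by
  rw [Presieve.isSheafFor_arrows_iff]
  intro x hx
  obtain ⟨s, hs⟩ := (descends_step hG k).2 (x PUnit.unit) fun Z a b e => hx PUnit.unit PUnit.unit Z a b e
  exact ⟨s, fun _ => hs, fun t ht => (descends_step hG k).1 ((ht PUnit.unit).trans hs.symm)⟩

theorem le_goodTop {G : BigSite.Ab Scheme.etalePrecoverage S} (hG : IsLocal G) :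
    K.toGrothendieck ≤ goodTop (G.obj ⋙ forget AddCommGrpCat.{u + 1}) := by
  rw [Precoverage.toGrothendieck_eq_sInf]
  refine sInf_le fun X R hR M φ => ?_
  intro N f
  rw [← Sieve.overEquiv_symm_pullback, ← Sieve.pullback_comp]
  rcases hR with hR | ⟨W, w, hw, hws, rfl⟩
  · refine ((isSheaf_iff_isSheaf_of_type _ _).1 ((Presheaf.isSheaf_iff_isSheaf_forget _ _ _).1 G.property)) _ ?_
    rw [GrothendieckTopology.mem_over_iff, OrderIso.apply_symm_apply]
    exact GrothendieckTopology.pullback_stable _ _ (Precoverage.generate_mem_toGrothendieck hR)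
  · let ψ := f.left ≫ φ
    let W' : Over S := Over.mk (pullback.fst ψ w ≫ N.hom)
    let k : W' ⟶ N := Over.homMk (pullback.fst ψ w) rfl
    haveI : IsFinite k.left := inferInstanceAs (IsFinite (pullback.fst ψ w))
    haveI : Surjective k.left := inferInstanceAs (Surjective (pullback.fst ψ w))
    have e : (Sieve.overEquiv N).symm ((Sieve.generate (Presieve.singleton w)).pullback ψ) =
        Sieve.generate (Presieve.ofArrows (fun _ : PUnit.{1} => W') (fun _ => k)) := by
      ext Z a
      rw [Sieve.overEquiv_symm_iff]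
      constructor
      · rintro ⟨_, b, _, ⟨⟩, hb⟩
        refine ⟨W', Over.homMk (pullback.lift a.left b hb.symm) ?_, k, ⟨PUnit.unit⟩,
          Over.OverMorphism.ext (pullback.lift_fst _ _ _)⟩
        show pullback.lift _ _ _ ≫ pullback.fst _ _ ≫ N.hom = Z.hom
        rw [pullback.lift_fst_assoc, Over.w]
      · rintro ⟨_, b, _, ⟨-⟩, rfl⟩
        refine ⟨W, b.left ≫ pullback.snd ψ w, w, Presieve.singleton_self w, ?_⟩
        show _ = (b.left ≫ pullback.fst ψ w) ≫ ψ
        rw [Category.assoc, Category.assoc, pullback.condition]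
    rw [e, ← Presieve.isSheafFor_iff_generate]
    exact isSheafFor_singleton hG k

theorem isSheaf_K {G : BigSite.Ab Scheme.etalePrecoverage S} (hG : IsLocal G) :
    Presheaf.IsSheaf (QuotSh.J K S) G.obj := by
  rw [Presheaf.isSheaf_iff_isSheaf_forget _ _ (forget AddCommGrpCat.{u + 1}), isSheaf_iff_isSheaf_of_type]
  intro M R hR
  have h := le_goodTop hG _ ((GrothendieckTopology.mem_over_iff _ _).1 hR) M (𝟙 _) M (𝟙 _)
  simpa using h

end Groth.Agent.UoDesc5
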