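import Groth.Agent.Lib.CmpBig24.Main
import Groth.Agent.Lib.QCGen12.Finite
import Groth.Agent.S0410
import Groth.Prelude.Def_BigSite
import Mathlib.AlgebraicGeometry.ZariskisMainTheorem

/-!
# The topology generated by étale coverings and finite surjective morphisms
-/

set_option autoImplicit false
set_option linter.style.haveILetI false
set_option linter.unusedSectionVars false
set_option backward.isDefEq.respectTransparency false
set_option backward.isDefEq.respectTransparency.types false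

universe u

open CategoryTheory CategoryTheory.Limits AlgebraicGeometry TopologicalSpace

noncomputable section

namespace Groth.Agent.UoDesc5

/-- Finite surjective morphisms as singleton coverings. -/
def finSurj : Precoverage Scheme.{u} where
  coverings X := Set.ofPred fun R => ∃ (W : Scheme.{u}) (w : W ⟶ X), IsFinite w ∧ Surjective w ∧ R = Presieve.singleton w

/-- Étale coverings and finite surjective morphisms. -/
def K : Precoverage Scheme.{u} := Scheme.etalePrecoverage ⊔ finSurj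

theorem etale_le : Scheme.etalePrecoverage.{u}.toGrothendieck ≤ K.{u}.toGrothendieck :=
  Precoverage.toGrothendieck_mono le_sup_left

theorem finite_mem {W V : Scheme.{u}} (w : W ⟶ V) [IsFinite w] [Surjective w] :
    Sieve.ofArrows (fun _ : PUnit.{1} => W) (fun _ => w) ∈ K.toGrothendieck V := by
  rw [Sieve.ofArrows, Presieve.ofArrows_pUnit]
  exact Precoverage.generate_mem_toGrothendieck
    ((le_sup_right : finSurj.{u} ≤ K) V ⟨W, w, inferInstance, inferInstance, rfl⟩)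

/-- Locally on the base, the sieve contains a Zariski covering of a finite surjective cover. -/
def Rf {U : Scheme.{u}} (S : Sieve U) : Prop :=
  ∀ x : U, ∃ (V : U.Opens) (W : Scheme.{u}) (w : W ⟶ V), x ∈ V ∧ IsAffineOpen V ∧ IsFinite w ∧ Surjective w ∧
    ∀ p : W, ∃ O : W.Opens, p ∈ O ∧ S (O.ι ≫ w ≫ V.ι)

theorem rf_top (U : Scheme.{u}) : Rf (⊤ : Sieve U) := fun x => by
  obtain ⟨V, hV, hx, -⟩ := exists_isAffineOpen_mem_and_subset (U := ⊤) (Opens.mem_top x)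
  exact ⟨V, V, 𝟙 _, hx, hV, inferInstance, inferInstance, fun p => ⟨⊤, Opens.mem_top p, trivial⟩⟩

theorem rf_pullback {U U' : Scheme.{u}} (g : U' ⟶ U) (S : Sieve U) (hS : Rf S) : Rf (S.pullback g) := by
  intro x
  obtain ⟨V, W, w, hx, hV, hw, hws, hloc⟩ := hS (g x)
  obtain ⟨V', hV', hx', hle⟩ := exists_isAffineOpen_mem_and_subset (U := g ⁻¹ᵁ V) hx
  let γ := g.resLE V V' hle
  refine ⟨V', pullback w γ, pullback.snd w γ, hx', hV', inferInstance, inferInstance, fun p => ?_⟩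
  obtain ⟨O, hO, hSO⟩ := hloc (pullback.fst w γ p)
  refine ⟨pullback.fst w γ ⁻¹ᵁ O, hO, ?_⟩
  have e : ((pullback.fst w γ ⁻¹ᵁ O).ι ≫ pullback.snd w γ ≫ V'.ι) ≫ g =
      (pullback.fst w γ ∣_ O) ≫ O.ι ≫ w ≫ V.ι := by
    rw [morphismRestrict_ι_assoc, pullback.condition_assoc, Scheme.Hom.resLE_comp_ι]
    simp only [Category.assoc]
  show S _
  rw [e]
  exact S.downward_closed hSO _

/-- A finite surjective cover of a quasi-compact open is dominated by one of the whole. -/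
theorem exists_extend {W : Scheme.{u}} [CompactSpace W] [QuasiSeparatedSpace W] (A : W.Opens)
    (hA : IsCompact (A : Set W)) {B : Scheme.{u}} (b : B ⟶ A) [IsFinite b] [Surjective b] :
    ∃ (B' : Scheme.{u}) (h : B' ⟶ W) (r : (h ⁻¹ᵁ A).toScheme ⟶ B), IsFinite h ∧ Surjective h ∧
      r ≫ b = h ∣_ A := by
  haveI : QuasiCompact A.ι := by
    haveI : CompactSpace A.toScheme := isCompact_iff_compactSpace.1 hA
    infer_instance
  let q := b ≫ A.ι
  haveI : CompactSpace B := QuasiCompact.compactSpace_of_compactSpace q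
  let P : q.normalization.Opens := q.toNormalization.opensRange
  let e : B ≅ P.toScheme := q.toNormalization.isoOpensRange
  have he : e.hom ≫ P.ι ≫ q.fromNormalization = q := by
    rw [← Category.assoc, Scheme.Hom.isoOpensRange_hom_ι, Scheme.Hom.toNormalization_fromNormalization]
  haveI : LocallyOfFiniteType (P.ι ≫ q.fromNormalization) := by
    rw [← MorphismProperty.cancel_left_of_respectsIso @LocallyOfFiniteType e.hom, he]
    infer_instance
  obtain ⟨T, j₀, ρ₀, hj₀, hρ₀, hjρ⟩ := QCGen12.exists_finite_factor q.fromNormalization P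
    (isCompact_range q.toNormalization.continuous)
  let ρ : T ⨿ W ⟶ W := coprod.desc ρ₀ (𝟙 W)
  haveI : IsFinite ρ := inferInstanceAs (IsFinite (coprod.desc ρ₀ (𝟙 W)))
  let j : B ⟶ T ⨿ W := (e.hom ≫ j₀) ≫ coprod.inl
  have hj : j ≫ ρ = q := by
    simp only [j, ρ, Category.assoc, coprod.inl_desc]
    rw [hjρ, he]
  have hjA : j ⁻¹ᵁ (ρ ⁻¹ᵁ A) = ⊤ := by
    rw [← Scheme.Hom.comp_preimage, hj, Scheme.Hom.comp_preimage]
    simp
  let j' : B ⟶ (ρ ⁻¹ᵁ A).toScheme := IsOpenImmersion.lift (ρ ⁻¹ᵁ A).ι j (by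
    rintro _ ⟨y, rfl⟩
    rw [Scheme.Opens.range_ι]
    exact ((congrArg (fun O : B.Opens => y ∈ O) hjA).mpr (Opens.mem_top y) : y ∈ j ⁻¹ᵁ (ρ ⁻¹ᵁ A)))
  have hj' : j' ≫ (ρ ∣_ A) = b := by
    rw [← cancel_mono A.ι, Category.assoc, morphismRestrict_ι, IsOpenImmersion.lift_fac_assoc, hj]
  haveI : IsFinite (j' ≫ (ρ ∣_ A)) := by rw [hj']; infer_instance
  haveI : IsFinite j' := IsFinite.of_comp j' (ρ ∣_ A)
  let Z : Closeds ↥(T ⨿ W) := ⟨closure (Set.range j) ∪ (ρ ⁻¹' (A : Set W)ᶜ),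
    isClosed_closure.union (A.2.isClosed_compl.preimage ρ.continuous)⟩
  have hZA : (Z : Set ↥(T ⨿ W)) ∩ ρ ⁻¹' (A : Set W) ⊆ Set.range j := by
    rintro z ⟨hz | hz, hzA⟩
    · obtain ⟨C, hC, hCe⟩ := (ρ ⁻¹ᵁ A).ι.isOpenEmbedding.isInducing.isClosed_iff.1 j'.isClosedMap.isClosed_range
      have hsub : Set.range j ⊆ C := by
        rintro _ ⟨y, rfl⟩
        have : j' y ∈ (ρ ⁻¹ᵁ A).ι ⁻¹' C := by rw [hCe]; exact ⟨y, rfl⟩
        rwa [Set.mem_preimage, ← Scheme.Hom.comp_apply, IsOpenImmersion.lift_fac] at this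
      have hzC : (⟨z, hzA⟩ : (ρ ⁻¹ᵁ A).toScheme) ∈ (ρ ⁻¹ᵁ A).ι ⁻¹' C := closure_minimal hsub hC hz
      rw [hCe] at hzC
      obtain ⟨y, hy⟩ := hzC
      refine ⟨y, ?_⟩
      have := congrArg (ρ ⁻¹ᵁ A).ι hy
      rw [← Scheme.Hom.comp_apply, IsOpenImmersion.lift_fac] at this
      exact this
    · exact absurd hzA hz
  let I := Scheme.IdealSheafData.vanishingIdeal Z
  have hI : Set.range I.subschemeι = (Z : Set ↥(T ⨿ W)) := by
    rw [Scheme.IdealSheafData.range_subschemeι, Scheme.IdealSheafData.coe_support_vanishingIdeal]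
  let h : I.subscheme ⟶ W := I.subschemeι ≫ ρ
  haveI : IsOpenImmersion j := inferInstance
  have hr : Set.range ((h ⁻¹ᵁ A).ι ≫ I.subschemeι) ⊆ Set.range j := by
    rintro _ ⟨y, rfl⟩
    refine hZA ⟨?_, ?_⟩
    · rw [Scheme.Hom.comp_apply, ← hI]
      exact ⟨_, rfl⟩
    · exact y.2
  refine ⟨_, h, IsOpenImmersion.lift j ((h ⁻¹ᵁ A).ι ≫ I.subschemeι) hr, inferInstance, ⟨fun y => ?_⟩, ?_⟩
  · have : y ∈ ρ '' (Z : Set ↥(T ⨿ W)) := by
      by_cases hy : y ∈ A
      · obtain ⟨x, hx⟩ := b.surjective ⟨y, hy⟩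
        refine ⟨j x, Or.inl (subset_closure ⟨x, rfl⟩), ?_⟩
        rw [← Scheme.Hom.comp_apply, hj, Scheme.Hom.comp_apply, hx]
        rfl
      · have e' : ρ ((coprod.inr : W ⟶ T ⨿ W) y) = y := by
          rw [← Scheme.Hom.comp_apply, coprod.inr_desc]
          rfl
        exact ⟨(coprod.inr : W ⟶ T ⨿ W) y, Or.inr (by rw [Set.mem_preimage, e']; exact hy), e'⟩
    rw [← hI] at this
    obtain ⟨_, ⟨z, rfl⟩, hz⟩ := this
    exact ⟨z, hz⟩
  · rw [← cancel_mono A.ι, Category.assoc, morphismRestrict_ι, show b ≫ A.ι = j ≫ ρ from hj.symm,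
      IsOpenImmersion.lift_fac_assoc, Category.assoc]

theorem exists_extend_finset {W : Scheme.{u}} [CompactSpace W] [QuasiSeparatedSpace W] {ι : Type u}
    (A : ι → W.Opens) (hA : ∀ i, IsCompact (A i : Set W)) (B : ι → Scheme.{u}) (b : ∀ i, B i ⟶ A i)
    [∀ i, IsFinite (b i)] [∀ i, Surjective (b i)] (s : Finset ι) :
    ∃ (B' : Scheme.{u}) (h : B' ⟶ W), IsFinite h ∧ Surjective h ∧
      ∀ i ∈ s, ∃ r : (h ⁻¹ᵁ A i).toScheme ⟶ B i, r ≫ b i = h ∣_ A i := by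
  classical
  induction s using Finset.induction with
  | empty => exact ⟨W, 𝟙 W, inferInstance, inferInstance, fun i hi => absurd hi (Finset.notMem_empty i)⟩
  | insert i s _ ih =>
    obtain ⟨B₁, h₁, hf₁, hs₁, hr₁⟩ := ih
    obtain ⟨B₂, h₂, r₂, hf₂, hs₂, hr₂⟩ := exists_extend (A i) (hA i) (b i)
    let h := pullback.fst h₁ h₂ ≫ h₁
    have e2 : h = pullback.snd h₁ h₂ ≫ h₂ := pullback.condition
    refine ⟨_, h, inferInstance, inferInstance, fun k hk => ?_⟩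
    rcases Finset.mem_insert.1 hk with rfl | hk
    · let γ := (pullback.snd h₁ h₂).resLE (h₂ ⁻¹ᵁ A k) (h ⁻¹ᵁ A k) (by
        rw [e2, Scheme.Hom.comp_preimage])
      refine ⟨γ ≫ r₂, ?_⟩
      rw [Category.assoc, hr₂, ← cancel_mono (A k).ι, Category.assoc, morphismRestrict_ι, morphismRestrict_ι,
        Scheme.Hom.resLE_comp_ι_assoc, ← e2]
    · obtain ⟨r, hr⟩ := hr₁ k hk
      let γ := (pullback.fst h₁ h₂).resLE (h₁ ⁻¹ᵁ A k) (h ⁻¹ᵁ A k) (by
        rw [Scheme.Hom.comp_preimage])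
      refine ⟨γ ≫ r, ?_⟩
      rw [Category.assoc, hr, ← cancel_mono (A k).ι, Category.assoc, morphismRestrict_ι, morphismRestrict_ι,
        Scheme.Hom.resLE_comp_ι_assoc]

theorem rf_transitive {U : Scheme.{u}} (S : Sieve U) (hS : Rf S) (R : Sieve U)
    (hR : ∀ ⦃Y : Scheme.{u}⦄ ⦃f : Y ⟶ U⦄, S f → Rf (R.pullback f)) : Rf R := by
  intro x
  obtain ⟨V, W, w, hx, hV, hw, hws, hloc⟩ := hS x
  haveI : IsAffine V.toScheme := hV
  haveI : IsAffine W := isAffine_of_isAffineHom w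
  choose O hpO hSO using hloc
  have hB := fun p => hR (hSO p) ⟨p, hpO p⟩
  choose Vp B c hp hVp hc hcs hQ using hB
  let A : W → W.Opens := fun p => (O p).ι ''ᵁ Vp p
  let e := fun p => (O p).ι.isoImage (Vp p)
  have hAc : ∀ p, IsCompact (A p : Set W) := fun p => ((hVp p).image_of_isOpenImmersion _).isCompact
  have hcov : (Set.univ : Set W) ⊆ ⋃ p, (A p : Set W) := fun p _ =>
    Set.mem_iUnion.2 ⟨p, ⟨p, hpO p⟩, hp p, rfl⟩
  obtain ⟨s, hs⟩ := isCompact_univ.elim_finite_subcover (fun p => (A p : Set W)) (fun p => (A p).2) hcov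
  haveI := hc; haveI := hcs
  obtain ⟨B', h, hhf, hhs, hr⟩ := exists_extend_finset A hAc B (fun p => c p ≫ (e p).hom) s
  refine ⟨V, B', h ≫ w, hx, hV, inferInstance, inferInstance, fun q => ?_⟩
  obtain ⟨p, hps, hpq⟩ := Set.mem_iUnion₂.1 (hs (Set.mem_univ (h q)))
  obtain ⟨r, hr⟩ := hr p hps
  obtain ⟨Q, hQ, hRQ⟩ := hQ p (r ⟨q, hpq⟩)
  let D := r ⁻¹ᵁ Q
  refine ⟨(h ⁻¹ᵁ A p).ι ''ᵁ D, ⟨⟨q, hpq⟩, hQ, rfl⟩, ?_⟩
  let η := (h ⁻¹ᵁ A p).ι.isoImage D
  have key : η.inv ≫ (r ∣_ Q) ≫ (Q.ι ≫ c p ≫ (Vp p).ι) ≫ (O p).ι ≫ w ≫ V.ι =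
      ((h ⁻¹ᵁ A p).ι ''ᵁ D).ι ≫ (h ≫ w) ≫ V.ι := by
    rw [← Scheme.Hom.isoImage_inv_ι_assoc (h ⁻¹ᵁ A p).ι D]
    refine congrArg (η.inv ≫ ·) ?_
    simp only [Category.assoc]
    rw [morphismRestrict_ι_assoc, ← morphismRestrict_ι_assoc h (A p), ← hr]
    simp only [Category.assoc, e, A, Scheme.Hom.isoImage_hom_ι_assoc]
    rfl
  rw [← key]
  exact R.downward_closed (R.downward_closed hRQ _) _

/-- The topology of locally refined sieves. -/
def rfTop : GrothendieckTopology Scheme.{u} where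
  sieves U := Set.ofPred fun S : Sieve U => Rf S
  top_mem' := rf_top
  pullback_stable' _ _ S g hS := rf_pullback g S hS
  transitive' _ S hS R hR := rf_transitive S hS R hR

theorem rf_of_finSurj {W X : Scheme.{u}} (g : W ⟶ X) [IsFinite g] [Surjective g] :
    Rf (Sieve.generate (Presieve.singleton g)) := fun x => by
  obtain ⟨V, hV, hx, -⟩ := exists_isAffineOpen_mem_and_subset (U := ⊤) (Opens.mem_top x)
  haveI : Surjective (g ∣_ V) := IsZariskiLocalAtTarget.restrict ‹Surjective g› V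
  refine ⟨V, g ⁻¹ᵁ V, g ∣_ V, hx, hV, inferInstance, inferInstance, fun p => ⟨⊤, Opens.mem_top p, ?_⟩⟩
  rw [morphismRestrict_ι]
  exact ⟨W, (⊤ : (g ⁻¹ᵁ V).toScheme.Opens).ι ≫ (g ⁻¹ᵁ V).ι, g, Presieve.singleton_self g, Category.assoc _ _ _⟩

theorem rf_of_etale {X : Scheme.{u}} (R : Presieve X) (hR : R ∈ Scheme.etalePrecoverage X) :
    Rf (Sieve.generate R) := by
  intro x
  obtain ⟨V, hV, hx, -⟩ := exists_isAffineOpen_mem_and_subset (U := ⊤) (Opens.mem_top x)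
  haveI : IsAffine V.toScheme := hV
  have h : ∀ v : V.toScheme, ∃ (Z : Scheme.{u}) (g : Z ⟶ X), R g ∧ ∃ y, g y = V.ι v := fun v =>
    Scheme.JointlySurjective.exists_eq (K := Scheme.precoverage @Etale) R hR (V.ι v)
  choose Z g hg y hy using h
  haveI : ∀ v, Etale (g v) := fun v => hR.2 (hg v)
  have hΩ : ∀ v, ∃ Ω : (g v ⁻¹ᵁ V).toScheme.Opens, IsAffineOpen Ω ∧
      ∃ z ∈ Ω, (g v ∣_ V) z = v := fun v => by
    have hyV : y v ∈ g v ⁻¹ᵁ V := by
      show g v (y v) ∈ V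
      rw [hy v]
      exact v.2
    obtain ⟨Ω, hΩ, hz, -⟩ := exists_isAffineOpen_mem_and_subset (U := ⊤)
      (Opens.mem_top (⟨y v, hyV⟩ : (g v ⁻¹ᵁ V).toScheme))
    refine ⟨Ω, hΩ, ⟨y v, hyV⟩, hz, V.ι.isOpenEmbedding.injective ?_⟩
    rw [← Scheme.Hom.comp_apply, morphismRestrict_ι, Scheme.Hom.comp_apply, Scheme.Opens.ι_apply]
    exact hy v
  choose Ω hΩa z hz hzv using hΩ
  let a := fun v => (Ω v).ι ≫ g v ∣_ V
  obtain ⟨t, ht⟩ := (isCompact_univ (X := V.toScheme)).elim_finite_subcover (fun v => Set.range (a v))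
    (fun v => (a v).isOpenMap.isOpen_range) (fun v _ => Set.mem_iUnion.2 ⟨v, ⟨z v, hz v⟩, hzv v⟩)
  let E : t → Scheme.{u} := fun v => (Ω v.1).toScheme
  let d : ∐ E ⟶ V.toScheme := Sigma.desc fun v => a v.1
  haveI : Etale d := IsZariskiLocalAtSource.sigmaDesc fun v => inferInstance
  haveI : Surjective d := Surjective.sigmaDesc_of_union_range_eq_univ (Set.eq_univ_of_forall fun v => by
    obtain ⟨v', hv', hmem⟩ := Set.mem_iUnion₂.1 (ht (Set.mem_univ v))
    exact Set.mem_iUnion.2 ⟨⟨v', hv'⟩, hmem⟩)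
  obtain ⟨W, w, hws, hwf, -, hloc⟩ := Groth.Agent.S0410.result d
  refine ⟨V, W, w, hx, hV, hwf, hws, fun p => ?_⟩
  obtain ⟨O, r, hpO, hr⟩ := hloc p
  obtain ⟨v, e, he⟩ := (sigmaOpenCover E).exists_eq (r ⟨p, hpO⟩)
  let ι := Sigma.ι E v
  let D : O.toScheme.Opens := r ⁻¹ᵁ ι.opensRange
  refine ⟨O.ι ''ᵁ D, ⟨⟨p, hpO⟩, ⟨e, he⟩, rfl⟩, ?_⟩
  let η := O.ι.isoImage D
  have hl : Set.range (D.ι ≫ r) ⊆ Set.range ι := by
    rintro _ ⟨q, rfl⟩
    exact q.2
  have key : η.inv ≫ (IsOpenImmersion.lift ι (D.ι ≫ r) hl ≫ (Ω v.1).ι ≫ (g v.1 ⁻¹ᵁ V).ι) ≫ g v.1 =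
      (O.ι ''ᵁ D).ι ≫ w ≫ V.ι := by
    rw [← Scheme.Hom.isoImage_inv_ι_assoc O.ι D]
    refine congrArg (η.inv ≫ ·) ?_
    have e1 : IsOpenImmersion.lift ι (D.ι ≫ r) hl ≫ a v.1 = D.ι ≫ O.ι ≫ w := by
      rw [← hr, ← show ι ≫ d = a v.1 from Sigma.ι_desc _ v, IsOpenImmersion.lift_fac_assoc, Category.assoc]
    rw [← reassoc_of% e1]
    simp only [a, Category.assoc, morphismRestrict_ι]
  exact ⟨Z v.1, η.inv ≫ (IsOpenImmersion.lift ι (D.ι ≫ r) hl ≫ (Ω v.1).ι ≫ (g v.1 ⁻¹ᵁ V).ι), g v.1, hg v.1,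
    by rw [Category.assoc]; exact key⟩

theorem le_rfTop : K.{u}.toGrothendieck ≤ rfTop := by
  intro X S hS
  induction hS with
  | of _ R hR =>
    rcases hR with hR | ⟨W, w, hw, hws, rfl⟩
    · exact rf_of_etale R hR
    · exact rf_of_finSurj w
  | top X => exact rf_top X
  | pullback _ _ _ Y f ih => exact rf_pullback f _ ih
  | transitive X S R _ _ ih1 ih2 => exact rf_transitive S ih1 R ih2

theorem zariski_mem {W : Scheme.{u}} {ι : Type u} (O : ι → W.Opens) (h : ∀ p : W, ∃ i, p ∈ O i) :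
    Sieve.ofArrows (fun i => (O i).toScheme) (fun i => (O i).ι) ∈ Scheme.etalePrecoverage.toGrothendieck W :=
  Precoverage.generate_mem_toGrothendieck ((Scheme.ofArrows_mem_precoverage_iff _).2
    ⟨fun p => ⟨(h p).choose, ⟨p, (h p).choose_spec⟩, rfl⟩, fun i => inferInstanceAs (Etale (O i).ι)⟩)

/-- The hypothesis (5) of the comparison. -/
theorem refines : CmpBig24.Refines (C := Scheme.{u}) K.toGrothendieck
    Scheme.etalePrecoverage.toGrothendieck (fun _ _ f => IsFinite f) := by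
  intro U S hS
  choose V W w hx hV hw hws hloc using le_rfTop U hS
  refine ⟨U, fun x => (V x).toScheme, fun x => (V x).ι, zariski_mem V fun x => ⟨x, hx x⟩, fun x => ?_⟩
  haveI := hw x; haveI := hws x
  choose O hO hSO using hloc x
  exact ⟨W x, w x, hw x, finite_mem (w x), W x, fun p => (O p).toScheme, fun p => (O p).ι,
    zariski_mem O fun p => ⟨p, hO p⟩, hSO⟩

/-- Refined sieves are coverings. -/
theorem mem_of_rf {U : Scheme.{u}} (S : Sieve U) (hS : Rf S) : S ∈ K.toGrothendieck U := by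
  choose V W w hx hV hw hws hloc using hS
  refine K.toGrothendieck.transitive (etale_le U (zariski_mem V fun x => ⟨x, hx x⟩)) _ fun Y f hf => ?_
  obtain ⟨_, a, _, ⟨x⟩, rfl⟩ := hf
  rw [Sieve.pullback_comp]
  refine K.toGrothendieck.pullback_stable a ?_
  haveI := hw x; haveI := hws x
  refine K.toGrothendieck.transitive (finite_mem (w x)) _ fun Y' f' hf' => ?_
  obtain ⟨_, a', _, ⟨-⟩, rfl⟩ := hf'
  rw [Sieve.pullback_comp]
  refine K.toGrothendieck.pullback_stable a' ?_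
  choose O hO hSO using hloc x
  refine K.toGrothendieck.superset_covering ?_ (etale_le _ (zariski_mem O fun p => ⟨p, hO p⟩))
  rintro Y'' _ ⟨_, a'', _, ⟨p⟩, rfl⟩
  show S (((a'' ≫ (O p).ι) ≫ w x) ≫ (V x).ι)
  simp only [Category.assoc]
  exact S.downward_closed (hSO p) a''

end Groth.Agent.UoDesc5

end
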